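import Mathlib
import Cfsg.Prelude.Def_Blocks

/-!
# S4876, the case `|P| = 9`, `N(P) / C(P)` of order `8` acting freely on `P` (T9d): definitions

* `CycE P` : `N(P) / C(P)` is cyclic (the words of S4876);
* `Free8 P` : `P` elementary abelian of order `9`, `N(P) / C(P)` of order `8` acting freely on `P \ {1}`;
* `Sit S P` : `S` normal simple nonabelian, `C_G(S) = 1`, index prime to `3`, `Free8 P`;
* rows for a simple group `X`: `NotFree X`, `QRow X`, `GRow X` (and `A₆`, `A₇`).
-/

set_option autoImplicit false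

open Subgroup

namespace Cfsg.Agent.H629.T9

open Cfsg

universe u v

/-- `N(P) / C(P)` is cyclic: the form of the statement S4876 -/
def CycE {G : Type u} [Group G] (P : Subgroup G) : Prop :=
  ∃ g ∈ normalizer (P : Set G), ∀ h ∈ normalizer (P : Set G), ∃ i : ℕ, ∃ c ∈ centralizer (P : Set G), h = g ^ i * c

/-- `P` is non-cyclic of order `9`, `N(P) / C(P)` has order `8` and acts freely on `P \ {1}` -/
structure Free8 {G : Type u} [Group G] (P : Subgroup G) : Prop where
  card : Nat.card P = 9
  nc : ¬ IsCyclic P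
  ind : (centralizer (P : Set G)).relIndex (normalizer (P : Set G)) = 8
  free : ∀ g ∈ normalizer (P : Set G), g ∉ centralizer (P : Set G) → ∀ x ∈ P, x ≠ 1 → g * x * g⁻¹ ≠ x

/-- the almost simple situation -/
structure Sit {G : Type u} [Group G] (S : Subgroup G) (P : Sylow 3 G) : Prop where
  normal : S.Normal
  simple : IsSimpleGroup S
  nonab : ¬ IsMulCommutative S
  cent : centralizer (S : Set G) = ⊥
  index : ¬ 3 ∣ S.index
  free : Free8 (P : Subgroup G)

/-- the conclusion of (T9d) -/
def Concl {G : Type u} [Group G] (M : Ideal AlgInt) (P : Subgroup G) : Prop :=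
  Nat.card (principalBlock M G) = 6 ↔ ¬ CycE P

/-- `N(P) / C(P)` does not act freely on the elementary abelian Sylow `3`-subgroup of order `9` -/
def NotFree (X : Type u) [Group X] : Prop :=
  ∃ x y h : X, orderOf x = 3 ∧ orderOf y = 3 ∧ Commute x y ∧ y ∉ zpowers x ∧ Commute h x ∧ h * y * h⁻¹ = y⁻¹

/-- the row for `PSL₃(q)`, `PSU₃(q)`, `M₂₂`: `N(P) / C(P)` is nonabelian, and for every `M` the principal `3`-block
contains a character of degree `±2` mod `9` -/
def QRow (X : Type u) [Group X] : Prop :=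
  (∃ P : Sylow 3 X, ∃ g ∈ normalizer ((P : Subgroup X) : Set X), ∃ h ∈ normalizer ((P : Subgroup X) : Set X),
    g * h * g⁻¹ * h⁻¹ ∉ centralizer ((P : Subgroup X) : Set X)) ∧
  ∀ M : Ideal AlgInt, IsPModular 3 M → ∃ θ : IrrCharacter X, θ ∈ principalBlock M X ∧
    (charDegree (θ : X → ℂ) % 9 = 2 ∨ charDegree (θ : X → ℂ) % 9 = 7)

/-- the general row for a simple group `X` -/
def GRow (X : Type v) [Group X] : Prop :=
  ∀ (G : Type u) [Group G] [Finite G] (M : Ideal AlgInt) (S : Subgroup G) (P : Sylow 3 G),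
    IsPModular 3 M → Sit S P → Nonempty (S ≃* X) → Concl M (P : Subgroup G)

/-- what has to be shown for every known simple group of order divisible by `9` but not by `27` with non-cyclic
Sylow `3`-subgroups -/
def Tab (X : Type u) [Group X] : Prop :=
  NotFree X ∨ QRow X ∨ Nonempty (X ≃* alternatingGroup (Fin 6)) ∨ Nonempty (X ≃* alternatingGroup (Fin 7))

theorem NotFree.congr {X : Type u} {Y : Type v} [Group X] [Group Y] (e : X ≃* Y) (h : NotFree X) : NotFree Y := by
  obtain ⟨x, y, k, h1, h2, h3, h4, h5, h6⟩ := h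
  refine ⟨e x, e y, e k, ?_, ?_, h3.map e, ?_, h5.map e, ?_⟩
  · rw [MulEquiv.orderOf_eq, h1]
  · rw [MulEquiv.orderOf_eq, h2]
  · intro hc
    obtain ⟨i, hi⟩ := mem_zpowers_iff.1 hc
    rw [← map_zpow] at hi
    exact h4 (mem_zpowers_iff.2 ⟨i, e.injective hi⟩)
  · rw [← map_mul, ← map_inv, ← map_mul, h6, map_inv]

end Cfsg.Agent.H629.T9
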